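import Groth.Agent.Lib.Helper6.FlatBir.Stalk
import Mathlib.AlgebraicGeometry.Stalk

set_option linter.unusedSectionVars false
set_option linter.unusedVariables false
set_option linter.unusedSimpArgs false
set_option autoImplicit false
set_option linter.style.haveILetI false
set_option maxHeartbeats 400000

namespace Groth.Agent.Helper6.FlatBirLib

open AlgebraicGeometry CategoryTheory

universe u

lemma isDominant_SpecMap_of_injective {R S : CommRingCat.{u}} (ψ : R ⟶ S)
    (hψ : Function.Injective ψ.hom) : IsDominant (Spec.map ψ) := by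
  constructor
  show DenseRange (PrimeSpectrum.comap ψ.hom)
  rw [PrimeSpectrum.denseRange_comap_iff_ker_le_nilRadical,
    (RingHom.injective_iff_ker_eq_bot _).mp hψ]
  exact bot_le

lemma SpecMap_closedPoint {R S : CommRingCat.{u}} [IsLocalRing R] [IsLocalRing S] (ψ : R ⟶ S)
    [IsLocalHom ψ.hom] : (Spec.map ψ) (IsLocalRing.closedPoint S) = IsLocalRing.closedPoint R :=
  IsLocalRing.comap_closedPoint ψ.hom

variable {X' X : Scheme.{u}} [IsIntegral X'] [IsIntegral X] (f : X' ⟶ X)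

/-- Key: two points with the same image, both of whose stalk maps are isomorphisms, coincide
when `f` is separated. -/
lemma eq_of_map_eq [IsSeparated f] (x₁ x₂ : X') (h : f x₁ = f x₂)
    (h₁ : IsIso (f.stalkMap x₁)) (h₂ : IsIso (f.stalkMap x₂)) : x₁ = x₂ := by
  have hsp₁ : genericPoint X' ⤳ x₁ := (genericPoint_spec X').specializes trivial
  have hsp₂ : genericPoint X' ⤳ x₂ := (genericPoint_spec X').specializes trivial
  have hc : f x₂ ⤳ f x₁ := h ▸ specializes_rfl
  have hc' : f x₁ ⤳ f x₂ := h ▸ specializes_rfl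
  let c : X.presheaf.stalk (f x₁) ⟶ X.presheaf.stalk (f x₂) := X.presheaf.stalkSpecializes hc
  let c' : X.presheaf.stalk (f x₂) ⟶ X.presheaf.stalk (f x₁) := X.presheaf.stalkSpecializes hc'
  have hcc' : c ≫ c' = 𝟙 _ := by
    simp only [c, c']
    rw [TopCat.Presheaf.stalkSpecializes_comp]
    exact TopCat.Presheaf.stalkSpecializes_refl _ _
  have hc'c : c' ≫ c = 𝟙 _ := by
    simp only [c, c']
    rw [TopCat.Presheaf.stalkSpecializes_comp]
    exact TopCat.Presheaf.stalkSpecializes_refl _ _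
  haveI : IsIso c := ⟨c', hcc', hc'c⟩
  let φ₁ := f.stalkMap x₁
  let φ₂ := c ≫ f.stalkMap x₂
  haveI : IsIso φ₁ := h₁
  haveI : IsIso φ₂ := by dsimp only [φ₂]; infer_instance
  let g₁ : Spec (X.presheaf.stalk (f x₁)) ⟶ X' := Spec.map (inv φ₁) ≫ X'.fromSpecStalk x₁
  let g₂ : Spec (X.presheaf.stalk (f x₁)) ⟶ X' := Spec.map (inv φ₂) ≫ X'.fromSpecStalk x₂
  -- both are morphisms over `X`
  have hg₁ : g₁ ≫ f = X.fromSpecStalk (f x₁) := by
    simp only [g₁, Category.assoc]
    rw [← Scheme.SpecMap_stalkMap_fromSpecStalk, ← Spec.map_comp_assoc]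
    show Spec.map (φ₁ ≫ inv φ₁) ≫ _ = _
    rw [IsIso.hom_inv_id, Spec.map_id, Category.id_comp]
  have hg₂ : g₂ ≫ f = X.fromSpecStalk (f x₁) := by
    simp only [g₂, Category.assoc]
    rw [← Scheme.SpecMap_stalkMap_fromSpecStalk, ← Scheme.SpecMap_stalkSpecializes_fromSpecStalk hc,
      ← Spec.map_comp_assoc, ← Spec.map_comp_assoc]
    show Spec.map (φ₂ ≫ inv φ₂) ≫ _ = _
    rw [IsIso.hom_inv_id, Spec.map_id, Category.id_comp]
  -- the dominant morphism from the spectrum of the function field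
  let sp₁ := X'.presheaf.stalkSpecializes hsp₁
  let sp₂ := X'.presheaf.stalkSpecializes hsp₂
  have hφ : φ₁ ≫ sp₁ = φ₂ ≫ sp₂ := by
    simp only [φ₁, φ₂, sp₁, sp₂, c, Category.assoc]
    rw [← Scheme.Hom.stalkSpecializes_stalkMap f _ _ hsp₁,
      ← Scheme.Hom.stalkSpecializes_stalkMap f _ _ hsp₂,
      TopCat.Presheaf.stalkSpecializes_comp_assoc]
  have hinj : Function.Injective (φ₁ ≫ sp₁).hom := by
    have h1 : Function.Injective φ₁.hom :=
      ((ConcreteCategory.isIso_iff_bijective _).mp h₁).1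
    have h2 : Function.Injective sp₁.hom := stalkSpecializes_injective x₁ hsp₁
    rw [CommRingCat.hom_comp]
    exact h2.comp h1
  haveI : IsDominant (Spec.map (φ₁ ≫ sp₁)) := isDominant_SpecMap_of_injective _ hinj
  have hι₁ : Spec.map (φ₁ ≫ sp₁) ≫ g₁ = X'.fromSpecStalk (genericPoint X') := by
    simp only [g₁]
    rw [← Spec.map_comp_assoc, IsIso.inv_hom_id_assoc]
    exact Scheme.SpecMap_stalkSpecializes_fromSpecStalk hsp₁
  have hι₂ : Spec.map (φ₁ ≫ sp₁) ≫ g₂ = X'.fromSpecStalk (genericPoint X') := by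
    rw [hφ]
    simp only [g₂]
    rw [← Spec.map_comp_assoc, IsIso.inv_hom_id_assoc]
    exact Scheme.SpecMap_stalkSpecializes_fromSpecStalk hsp₂
  have hgg : g₁ = g₂ :=
    ext_of_isDominant_of_isSeparated f (hg₁.trans hg₂.symm) (Spec.map (φ₁ ≫ sp₁))
      (hι₁.trans hι₂.symm)
  -- evaluate at the closed point
  obtain ⟨p, hp⟩ : ∃ p : ↥(Spec (X.presheaf.stalk (f x₁))),
    p = IsLocalRing.closedPoint (X.presheaf.stalk (f x₁)) := ⟨_, rfl⟩
  have e₁ : g₁ p = x₁ := by
    have h1 : g₁ p = (X'.fromSpecStalk x₁) ((Spec.map (inv φ₁)) p) :=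
      Scheme.Hom.comp_apply _ _ _
    haveI : IsLocalHom (inv φ₁).hom := isLocalHom_of_isIso _
    have h2 : (Spec.map (inv φ₁)) p = IsLocalRing.closedPoint (X'.presheaf.stalk x₁) := by
      rw [hp]; exact SpecMap_closedPoint (inv φ₁)
    rw [h1, h2]
    exact Scheme.fromSpecStalk_closedPoint
  have e₂ : g₂ p = x₂ := by
    have h1 : g₂ p = (X'.fromSpecStalk x₂) ((Spec.map (inv φ₂)) p) :=
      Scheme.Hom.comp_apply _ _ _
    haveI : IsLocalHom (inv φ₂).hom := isLocalHom_of_isIso _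
    have h2 : (Spec.map (inv φ₂)) p = IsLocalRing.closedPoint (X'.presheaf.stalk x₂) := by
      rw [hp]; exact SpecMap_closedPoint (inv φ₂)
    rw [h1, h2]
    exact Scheme.fromSpecStalk_closedPoint
  rw [← e₁, ← e₂, hgg]

end Groth.Agent.Helper6.FlatBirLib
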