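import Groth.Agent.Lib.Helper6.FlatBir.Inj
import Mathlib.AlgebraicGeometry.Morphisms.UniversallyOpen
import Mathlib.AlgebraicGeometry.Morphisms.IsIso

set_option linter.unusedSectionVars false
set_option linter.unusedVariables false
set_option linter.unusedSimpArgs false
set_option autoImplicit false
set_option linter.style.haveILetI false
set_option maxHeartbeats 400000

namespace Groth.Agent.Helper6.FlatBirLib

open AlgebraicGeometry CategoryTheory

universe u

theorem flat_iff_isIso {X' X : Scheme.{u}} [IsIntegral X'] [IsIntegral X]
    (f : X' ⟶ X) [Surjective f] [IsSeparated f] (hK : IsIso (f.stalkMap (genericPoint X')))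
    (h : IsAffineHom f ∨ LocallyOfFinitePresentation f) :
    Flat f ↔ IsIso f := by
  constructor
  · intro hf
    have hst : ∀ x', IsIso (f.stalkMap x') := fun x' =>
      (ConcreteCategory.isIso_iff_bijective _).mpr (bijective_stalkMap_of_flat f hK x')
    have hinj : Function.Injective f := fun x₁ x₂ h =>
      eq_of_map_eq f x₁ x₂ h (hst x₁) (hst x₂)
    have hopen : Topology.IsOpenEmbedding f := by
      rcases h with h | h
      · have hq : Topology.IsQuotientMap f := Flat.isQuotientMap_of_surjective f
        exact (isHomeomorph_iff_isQuotientMap_injective.mpr ⟨hq, hinj⟩).isOpenEmbedding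
      · exact Topology.IsOpenEmbedding.of_continuous_injective_isOpenMap f.continuous hinj
          f.isOpenMap
    haveI := IsOpenImmersion.of_isIso_stalkMap f hopen
    exact (isIso_iff_isOpenImmersion_and_surjective f).mpr ⟨inferInstance, inferInstance⟩
  · intro _; infer_instance

end Groth.Agent.Helper6.FlatBirLib
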