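import Mathlib.RingTheory.Flat.FaithfullyFlat.Algebra
import Mathlib.RingTheory.RingHom.Flat
import Mathlib.Tactic.Algebraize

set_option linter.unusedSectionVars false
set_option linter.unusedVariables false
set_option linter.unusedSimpArgs false
set_option autoImplicit false
set_option linter.style.haveILetI false
set_option maxHeartbeats 400000

namespace Groth.Agent.Helper6.FlatBirLib

/-- A flat local homomorphism of local rings `φ : A → B`, with `B` a domain embedded in a ring
`L` all of whose elements are fractions of elements coming from `A`, is surjective. -/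
lemma surjective_of_flat_of_fraction {A B L : Type*} [CommRing A] [CommRing B] [CommRing L]
    [IsDomain B] [IsLocalRing A] [IsLocalRing B]
    (φ : A →+* B) (hφ : φ.Flat) [IsLocalHom φ]
    (j : B →+* L) (hj : Function.Injective j)
    (hfrac : ∀ l : L, ∃ a s : A, φ s ≠ 0 ∧ l * j (φ s) = j (φ a)) :
    Function.Surjective φ := by
  algebraize [φ]
  haveI : IsLocalHom (algebraMap A B) := ‹IsLocalHom φ›
  haveI : Module.FaithfullyFlat A B := Module.FaithfullyFlat.of_flat_of_isLocalHom
  intro b
  obtain ⟨a, s, hs, h⟩ := hfrac (j b)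
  have h1 : b * φ s = φ a := by
    apply hj
    rw [map_mul]; exact h
  have h2 : a ∈ ((Ideal.span {s}).map (algebraMap A B)).comap (algebraMap A B) := by
    rw [Ideal.mem_comap, Ideal.map_span, Set.image_singleton, Ideal.mem_span_singleton]
    exact ⟨b, by rw [mul_comm]; exact h1.symm⟩
  rw [Ideal.comap_map_eq_self_of_faithfullyFlat, Ideal.mem_span_singleton] at h2
  obtain ⟨c, rfl⟩ := h2
  refine ⟨c, ?_⟩
  rw [map_mul] at h1
  have h3 : φ s * (b - φ c) = 0 := by
    rw [mul_sub, mul_comm, h1, sub_self]
  rcases mul_eq_zero.mp h3 with h4 | h4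
  · exact absurd h4 hs
  · exact (sub_eq_zero.mp h4).symm

end Groth.Agent.Helper6.FlatBirLib
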