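import Mathlib.AlgebraicGeometry.Morphisms.Separated
import Mathlib.AlgebraicGeometry.Morphisms.Flat
import Mathlib.AlgebraicGeometry.Morphisms.Affine
import Mathlib.AlgebraicGeometry.Morphisms.FinitePresentation
import Mathlib.AlgebraicGeometry.FunctionField
import Groth.Agent.Lib.Helper6.FlatBir.Ring

set_option linter.unusedSectionVars false
set_option linter.unusedVariables false
set_option linter.unusedSimpArgs false
set_option autoImplicit false
set_option linter.style.haveILetI false
set_option maxHeartbeats 400000

namespace Groth.Agent.Helper6.FlatBirLib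

open AlgebraicGeometry CategoryTheory

universe u

variable {X' X : Scheme.{u}} [IsIntegral X'] [IsIntegral X] (f : X' ⟶ X)

lemma map_genericPoint [IsDominant f] : f (genericPoint X') = genericPoint X := by
  apply ((genericPoint_spec X).eq _).symm
  have := (genericPoint_spec X').image f.continuous
  rw [Set.image_univ, f.denseRange.closure_range] at this
  exact this

lemma exists_fraction {X : Scheme.{u}} [IsIntegral X] (y x : X) (hy : y = genericPoint X)
    (h : y ⤳ x) (l : X.presheaf.stalk y) :
    ∃ a s : X.presheaf.stalk x, s ≠ 0 ∧
      l * (X.presheaf.stalkSpecializes h).hom s = (X.presheaf.stalkSpecializes h).hom a := by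
  subst hy
  obtain ⟨a, s, hs, rfl⟩ := IsFractionRing.div_surjective (A := X.presheaf.stalk x) l
  have hs0 : s ≠ 0 := nonZeroDivisors.ne_zero hs
  refine ⟨a, s, hs0, ?_⟩
  have hinj := IsFractionRing.injective (X.presheaf.stalk x) X.functionField
  have : algebraMap (X.presheaf.stalk x) X.functionField s ≠ 0 := by
    intro h0
    apply hs0
    apply hinj
    rw [h0, map_zero]
  exact div_mul_cancel₀ _ this

lemma stalkSpecializes_injective {X : Scheme.{u}} [IsIntegral X] (x : X)
    (h : genericPoint X ⤳ x) :
    Function.Injective (X.presheaf.stalkSpecializes h).hom :=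
  IsFractionRing.injective (X.presheaf.stalk x) X.functionField

lemma bijective_stalkMap_of_flat [Flat f] [IsDominant f]
    (hK : IsIso (f.stalkMap (genericPoint X'))) (x' : X') :
    Function.Bijective (f.stalkMap x').hom := by
  have hflat : (f.stalkMap x').hom.Flat := Flat.stalkMap f x'
  constructor
  · algebraize [(f.stalkMap x').hom]
    haveI : IsLocalHom (algebraMap (X.presheaf.stalk (f x')) (X'.presheaf.stalk x')) :=
      inferInstanceAs (IsLocalHom (f.stalkMap x').hom)
    haveI : Module.FaithfullyFlat (X.presheaf.stalk (f x')) (X'.presheaf.stalk x') :=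
      Module.FaithfullyFlat.of_flat_of_isLocalHom
    exact FaithfulSMul.algebraMap_injective _ _
  · have hsp : genericPoint X' ⤳ x' := (genericPoint_spec X').specializes trivial
    apply surjective_of_flat_of_fraction (f.stalkMap x').hom hflat
      (X'.presheaf.stalkSpecializes hsp).hom (stalkSpecializes_injective x' hsp)
    intro l
    -- pull back `l` along the iso `stalkMap η'`
    have hbij : Function.Bijective (f.stalkMap (genericPoint X')).hom :=
      (ConcreteCategory.isIso_iff_bijective _).mp hK
    obtain ⟨l0, rfl⟩ := hbij.2 l
    have hsp' : f (genericPoint X') ⤳ f x' := f.base.hom.map_specializes hsp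
    obtain ⟨a, s, hs, has⟩ := exists_fraction (f (genericPoint X')) (f x') (map_genericPoint f)
      hsp' l0
    have hnat := fun y => Scheme.Hom.stalkSpecializes_stalkMap_apply f (genericPoint X') x' hsp y
    refine ⟨a, s, ?_, ?_⟩
    · intro h0
      apply hs
      have hinj : Function.Injective (f.stalkMap x').hom := by
        algebraize [(f.stalkMap x').hom]
        haveI : IsLocalHom (algebraMap (X.presheaf.stalk (f x')) (X'.presheaf.stalk x')) :=
          inferInstanceAs (IsLocalHom (f.stalkMap x').hom)
        haveI : Module.FaithfullyFlat (X.presheaf.stalk (f x')) (X'.presheaf.stalk x') :=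
          Module.FaithfullyFlat.of_flat_of_isLocalHom
        exact FaithfulSMul.algebraMap_injective _ _
      apply hinj
      rw [h0, map_zero]
    · have e1 := hnat s
      have e2 := hnat a
      have e3 := congrArg (f.stalkMap (genericPoint X')).hom has
      rw [map_mul] at e3
      exact (congrArg _ e1.symm).trans (e3.trans e2)

end Groth.Agent.Helper6.FlatBirLib
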